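import Mathlib

/-!
# Cyclic vectors for matrices with irreducible characteristic polynomial

If the characteristic polynomial of a square matrix `M` over a field is irreducible, then for
every non-zero vector `v` the vectors `v, M v, …, M^(n-1) v` are linearly independent and span
the whole space.  (Generic tool; written for project OMG = S2415.)
-/

set_option autoImplicit false
open scoped Matrix

namespace Cfsg.Agent.Lib.Helper62.OMG

open Polynomial

universe u

variable {F : Type u} [Field F] {ι : Type*} [Fintype ι] [DecidableEq ι]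

/-- a polynomial of degree `< n` killing a non-zero vector under `M` with irreducible charpoly
is zero. -/
theorem cyclic_poly_eq_zero (M : Matrix ι ι F) (hirr : Irreducible M.charpoly) (v : ι → F)
    (hv : v ≠ 0) (g : F[X]) (hdeg : g.natDegree < Fintype.card ι)
    (hg : (aeval M g) *ᵥ v = 0) : g = 0 := by
  by_contra hg0
  have hnd : ¬ M.charpoly ∣ g := by
    apply Polynomial.not_dvd_of_natDegree_lt hg0
    rw [Matrix.charpoly_natDegree_eq_dim]
    exact hdeg
  have hcop : IsCoprime M.charpoly g := (Irreducible.coprime_iff_not_dvd hirr).mpr hnd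
  obtain ⟨a, b, hab⟩ := hcop
  have h1 := congrArg (aeval M) hab
  rw [map_add, map_mul, map_mul, Matrix.aeval_self_charpoly, mul_zero, zero_add, map_one] at h1
  apply hv
  have h2 : v = (aeval M b * aeval M g) *ᵥ v := by rw [h1, Matrix.one_mulVec]
  rw [h2, ← Matrix.mulVec_mulVec, hg, Matrix.mulVec_zero]

/-- the vectors `M^j v`, `j < n`, are linearly independent. -/
theorem cyclic_linearIndependent (M : Matrix ι ι F) (hirr : Irreducible M.charpoly) (v : ι → F)
    (hv : v ≠ 0) :
    LinearIndependent F (fun j : Fin (Fintype.card ι) => (M ^ (j : ℕ)) *ᵥ v) := by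
  rw [Fintype.linearIndependent_iff]
  intro c hc
  have hdeg : (∑ j : Fin (Fintype.card ι), C (c j) * X ^ (j : ℕ) : F[X]).natDegree <
      Fintype.card ι := by
    by_cases h0 : (∑ j : Fin (Fintype.card ι), C (c j) * X ^ (j : ℕ) : F[X]) = 0
    · rw [h0, natDegree_zero]
      by_contra hcard
      have hcard0 : Fintype.card ι = 0 := by omega
      have : IsEmpty ι := Fintype.card_eq_zero_iff.mp hcard0
      exact hv (Subsingleton.elim _ _)
    · exact (Polynomial.natDegree_lt_iff_degree_lt h0).mpr (Polynomial.degree_sum_fin_lt c)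
  have hval : (aeval M (∑ j : Fin (Fintype.card ι), C (c j) * X ^ (j : ℕ) : F[X])) *ᵥ v = 0 := by
    rw [map_sum, Matrix.sum_mulVec, ← hc]
    apply Finset.sum_congr rfl
    intro j _
    rw [map_mul, aeval_C, map_pow, aeval_X, Algebra.algebraMap_eq_smul_one, Matrix.smul_mul,
      Matrix.one_mul, Matrix.smul_mulVec]
  have hz := cyclic_poly_eq_zero M hirr v hv _ hdeg hval
  intro j
  have hcoef := congrArg (fun p : F[X] => p.coeff (j : ℕ)) hz
  simp only [Polynomial.finsetSum_coeff, Polynomial.coeff_C_mul_X_pow, Polynomial.coeff_zero]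
    at hcoef
  rw [Finset.sum_eq_single j] at hcoef
  · simpa using hcoef
  · intro i _ hij
    rw [if_neg]
    intro h
    exact hij (Fin.ext h.symm)
  · intro h
    exact absurd (Finset.mem_univ j) h

/-- the vectors `M^j v`, `j < n`, span the whole space. -/
theorem cyclic_span_eq_top (M : Matrix ι ι F) (hirr : Irreducible M.charpoly) (v : ι → F)
    (hv : v ≠ 0) :
    Submodule.span F (Set.range (fun j : Fin (Fintype.card ι) => (M ^ (j : ℕ)) *ᵥ v)) = ⊤ := by
  apply (cyclic_linearIndependent M hirr v hv).span_eq_top_of_card_eq_finrank'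
  rw [Fintype.card_fin, Module.finrank_fintype_fun_eq_card]

end Cfsg.Agent.Lib.Helper62.OMG
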